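import Groth.Agent.FilTower.Basic
import Groth.Agent.DQCoh.Coprod
import Groth.Agent.KFlat.Resolution
import Mathlib.Algebra.Homology.HomotopyCategory.DegreewiseSplit
import Mathlib.Algebra.Homology.HomotopyCategory.Pretriangulated
import Mathlib.Algebra.Homology.DerivedCategory.Basic

/-!
Complexes out of which homotopy classes and derived morphisms into given objects agree:
closure under coproducts, cones and split sequential colimits; cellular resolutions lie in the class.
-/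

set_option autoImplicit false
set_option backward.isDefEq.respectTransparency false
set_option linter.style.haveILetI false
set_option linter.unusedSectionVars false
universe w v v' u u'

open CategoryTheory Limits Pretriangulated HomologicalComplex
open scoped ZeroObject

namespace Groth.Agent.RPushAdj

section Triangulated

variable {C : Type u} [Category.{v} C] [HasZeroObject C] [Preadditive C] [HasShift C ℤ]
  [∀ n : ℤ, (shiftFunctor C n).Additive] [Pretriangulated C]
  {D : Type u'} [Category.{v'} D] [HasZeroObject D] [Preadditive D] [HasShift D ℤ]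
  [∀ n : ℤ, (shiftFunctor D n).Additive] [Pretriangulated D]
  (F : C ⥤ D) [F.CommShift ℤ] [F.IsTriangulated]

/-- `F` is bijective on maps `A ⟶ Z` -/
def Bij (A Z : C) : Prop := Function.Bijective (F.map : (A ⟶ Z) → (F.obj A ⟶ F.obj Z))

variable {F}

lemma Bij.of_iso {A A' Z Z' : C} (h : Bij F A Z) (a : A' ≅ A) (z : Z ≅ Z') : Bij F A' Z' := by
  refine ⟨fun f g hfg => ?_, fun y => ?_⟩
  · rw [← cancel_epi a.inv, ← cancel_mono z.inv]
    refine h.1 ?_
    simp only [Functor.map_comp, hfg]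
  · obtain ⟨g, hg⟩ := h.2 (F.map a.inv ≫ y ≫ F.map z.inv)
    exact ⟨a.hom ≫ g ≫ z.hom, by simp [hg]⟩

lemma Bij.shift {A Z : C} (h : Bij F A Z) (n : ℤ) : Bij F (A⟦n⟧) (Z⟦n⟧) := by
  have nat : ∀ g : A ⟶ Z, F.map (g⟦n⟧') =
      (F.commShiftIso n).hom.app A ≫ (F.map g)⟦n⟧' ≫ (F.commShiftIso n).inv.app Z := fun g => by
    have e := (F.commShiftIso n).hom.naturality g
    simp only [Functor.comp_map] at e
    rw [← reassoc_of% e, Iso.hom_inv_id_app]
    exact (Category.comp_id _).symm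
  refine ⟨fun f g hfg => ?_, fun y => ?_⟩
  · obtain ⟨f, rfl⟩ := (shiftFunctor C n).map_surjective f
    obtain ⟨g, rfl⟩ := (shiftFunctor C n).map_surjective g
    rw [nat, nat, cancel_epi, cancel_mono] at hfg
    rw [h.1 ((shiftFunctor D n).map_injective hfg)]
  · obtain ⟨g, hg⟩ := h.2 ((shiftFunctor D n).preimage
      ((F.commShiftIso n).inv.app A ≫ y ≫ (F.commShiftIso n).hom.app Z))
    refine ⟨g⟦n⟧', ?_⟩
    rw [nat, hg, Functor.map_preimage]
    simp

/-- five lemma -/
theorem bij_obj₃ (T : Triangle C) (hT : T ∈ distTriang C) {Z : C} (h₁ : Bij F T.obj₁ Z)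
    (h₁' : Bij F (T.obj₁⟦(1 : ℤ)⟧) Z) (h₂ : Bij F T.obj₂ Z) (h₂' : Bij F (T.obj₂⟦(1 : ℤ)⟧) Z) :
    Bij F T.obj₃ Z := by
  have hF := F.map_distinguished T hT
  constructor
  · intro c c' hcc
    rw [← sub_eq_zero]
    have hz : F.map (c - c') = 0 := by rw [Functor.map_sub, hcc, sub_self]
    generalize c - c' = x at hz
    have hg : T.mor₂ ≫ x = 0 := h₂.1 (by rw [F.map_comp, hz, comp_zero, F.map_zero])
    obtain ⟨a, rfl⟩ := T.yoneda_exact₃ hT x hg
    let cs := (F.commShiftIso (1 : ℤ)).app T.obj₁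
    have hk : (F.mapTriangle.obj T).mor₃ ≫ cs.inv ≫ F.map a = 0 := by
      change (F.map T.mor₃ ≫ cs.hom) ≫ cs.inv ≫ F.map a = 0
      rw [Category.assoc, cs.hom_inv_id_assoc, ← F.map_comp, hz]
    obtain ⟨e, he⟩ := Triangle.yoneda_exact₂ _ (rot_of_distTriang _ (rot_of_distTriang _ hF)) (cs.inv ≫ F.map a)
      (by exact hk)
    obtain ⟨b, hb⟩ := h₂'.2 ((F.commShiftIso (1 : ℤ)).hom.app T.obj₂ ≫ (-e))
    have : a = T.mor₁⟦(1 : ℤ)⟧' ≫ b := h₁'.1 (by
      rw [F.map_comp, hb]
      have e2 := (F.commShiftIso (1 : ℤ)).hom.naturality T.mor₁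
      simp only [Functor.comp_map] at e2
      rw [reassoc_of% e2]
      change F.map a = cs.hom ≫ _
      rw [← cs.inv_comp_eq]
      refine he.trans ?_
      simp [Triangle.rotate]
      rfl)
    rw [this, ← Category.assoc, comp_distTriang_mor_zero₃₁ T hT, zero_comp]
  · intro y
    obtain ⟨b, hb⟩ := h₂.2 (F.map T.mor₂ ≫ y)
    have hfb : T.mor₁ ≫ b = 0 := h₁.1 (by
      rw [F.map_comp, hb, ← Category.assoc, ← F.map_comp, comp_distTriang_mor_zero₁₂ T hT, F.map_zero, zero_comp,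
        F.map_zero])
    obtain ⟨c, hc⟩ := T.yoneda_exact₂ hT b hfb
    have hd : (F.mapTriangle.obj T).mor₂ ≫ (y - F.map c) = 0 := by
      change F.map T.mor₂ ≫ (y - F.map c) = 0
      rw [Preadditive.comp_sub, ← F.map_comp, ← hc, hb, sub_self]
    obtain ⟨d, hd'⟩ := Triangle.yoneda_exact₃ _ hF _ hd
    obtain ⟨a, ha⟩ := h₁'.2 ((F.commShiftIso (1 : ℤ)).hom.app T.obj₁ ≫ d)
    refine ⟨c + T.mor₃ ≫ a, ?_⟩
    rw [F.map_add, F.map_comp, ha, add_comm, ← eq_sub_iff_add_eq, hd']
    exact (Category.assoc _ _ _).symm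

end Triangulated

section Complexes

variable {A : Type u} [Category.{v} A] [Abelian A] [HasDerivedCategory.{w} A]
  (P : ObjectProperty (HomotopyCategory A (ComplexShape.up ℤ)))

local notation "qA" => HomotopyCategory.quotient A (ComplexShape.up ℤ)

/-- maps into objects of `P` do not see quasi-isomorphisms -/
def QGood (W : CochainComplex A ℤ) : Prop :=
  ∀ Z, P Z → Bij (DerivedCategory.Qh (C := A)) ((qA).obj W) Z

/-- `P` is stable under shifts, up to isomorphism -/
def ShiftClosed : Prop := ∀ Z, P Z → ∀ n : ℤ, ∃ Z', P Z' ∧ Nonempty (Z' ≅ Z⟦n⟧)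

variable {P}

lemma QGood.of_iso {W W' : CochainComplex A ℤ} (h : QGood P W) (e : (qA).obj W' ≅ (qA).obj W) : QGood P W' :=
  fun Z hZ => (h Z hZ).of_iso e (Iso.refl Z)

lemma QGood.bij_shift (hP : ShiftClosed P) {W : CochainComplex A ℤ} (h : QGood P W) {Z} (hZ : P Z) (n : ℤ) :
    Bij (DerivedCategory.Qh (C := A)) (((qA).obj W)⟦n⟧) Z := by
  obtain ⟨Z', hZ', ⟨e⟩⟩ := hP Z hZ (-n)
  exact (((h Z' hZ').of_iso (Iso.refl _) e).shift n).of_iso (Iso.refl _)
    ((shiftFunctorCompIsoId _ (-n) n (neg_add_cancel n)).app Z)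

lemma QGood.shift (hP : ShiftClosed P) {W : CochainComplex A ℤ} (h : QGood P W) (n : ℤ) : QGood P (W⟦n⟧) :=
  fun _ hZ => (h.bij_shift hP hZ n).of_iso (((qA).commShiftIso n).app W) (Iso.refl _)

theorem QGood.cone (hP : ShiftClosed P) {K L : CochainComplex A ℤ} (φ : K ⟶ L) (hK : QGood P K)
    (hL : QGood P L) : QGood P (CochainComplex.mappingCone φ) := fun Z hZ =>
  bij_obj₃ (CochainComplex.mappingCone.triangleh φ)
    (HomotopyCategory.mappingCone_triangleh_distinguished φ) (hK Z hZ) (hK.bij_shift hP hZ 1) (hL Z hZ)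
    (hL.bij_shift hP hZ 1)

theorem QGood.of_degreewiseSplit (hP : ShiftClosed P) (S : ShortComplex (CochainComplex A ℤ))
    (σ : ∀ n, (S.map (eval A (ComplexShape.up ℤ) n)).Splitting) (h₁ : QGood P S.X₁) (h₂ : QGood P S.X₂) :
    QGood P S.X₃ := fun Z hZ =>
  bij_obj₃ (CochainComplex.trianglehOfDegreewiseSplit S σ)
    ((HomotopyCategory.distinguished_iff_iso_trianglehOfDegreewiseSplit _).2 ⟨S, σ, ⟨Iso.refl _⟩⟩) (h₁ Z hZ) (h₁.bij_shift hP hZ 1) (h₂ Z hZ)
    (h₂.bij_shift hP hZ 1)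

lemma qGood_zero : QGood P (0 : CochainComplex A ℤ) := fun Z _ => by
  have h1 : IsZero ((qA).obj (0 : CochainComplex A ℤ)) := (qA).map_isZero (isZero_zero _)
  exact ⟨fun f g _ => h1.eq_of_src f g, fun y => ⟨0, (DerivedCategory.Qh.map_isZero h1).eq_of_src _ y⟩⟩

variable [HasColimitsOfSize.{0, 0} A]
  (hKinj : ∀ K : CochainComplex A ℤ, ∃ (I : CochainComplex A ℤ) (f : K ⟶ I), I.IsKInjective ∧ QuasiIso f)

include hKinj in
theorem QGood.sigma {T : Type} (W : T → CochainComplex A ℤ) (h : ∀ t, QGood P (W t)) : QGood P (∐ W) := by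
  intro Z hZ
  obtain ⟨L, rfl⟩ : ∃ L, Z = (qA).obj L := ⟨Z.as, rfl⟩
  obtain ⟨hcol⟩ := DQCoh.nonempty_isColimit_Q_coprod (A := A) hKinj W
  let e := DerivedCategory.quotientCompQhIso A
  constructor
  · intro f g hfg
    obtain ⟨f, rfl⟩ := (qA).map_surjective f
    obtain ⟨g, rfl⟩ := (qA).map_surjective g
    refine HomotopyCategory.eq_of_homotopy _ _ (Homotopy.equivSubZero.symm
      (FilTower.nonempty_homotopy_of_sigma (f - g) fun t => ?_).some)
    have : (qA).map (Sigma.ι W t ≫ f) = (qA).map (Sigma.ι W t ≫ g) := (h t _ hZ).1 (by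
      simp only [Functor.map_comp, hfg])
    refine ⟨(Homotopy.ofEq (Preadditive.comp_sub _ _ _)).trans
      (Homotopy.equivSubZero (HomotopyCategory.homotopyOfEq _ _ this))⟩
  · intro y
    choose x hx using fun t => (h t _ hZ).2 (DerivedCategory.Qh.map ((qA).map (Sigma.ι W t)) ≫ y)
    choose x' hx' using fun t => (qA).map_surjective (x t)
    refine ⟨(qA).map (Sigma.desc x'), ?_⟩
    rw [← cancel_epi (e.inv.app (∐ W))]
    refine Cofan.IsColimit.hom_ext hcol _ _ fun t => ?_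
    change DerivedCategory.Q.map (Sigma.ι W t) ≫ _ = DerivedCategory.Q.map (Sigma.ι W t) ≫ _
    have en := e.inv.naturality (Sigma.ι W t)
    simp only [Functor.comp_map] at en
    rw [reassoc_of% en, reassoc_of% en, ← Functor.map_comp, ← Functor.map_comp, Sigma.ι_desc, hx', hx]

/-- the telescope short complex of a sequence -/
noncomputable def telSC {X : ℕ → CochainComplex A ℤ} (i : ∀ n, X n ⟶ X (n + 1)) {L : CochainComplex A ℤ}
    (c : ∀ n, X n ⟶ L) (hc : ∀ n, i n ≫ c (n + 1) = c n) : ShortComplex (CochainComplex A ℤ) :=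
  ShortComplex.mk (Sigma.desc fun n => Sigma.ι X n - i n ≫ Sigma.ι X (n + 1)) (Sigma.desc c)
    (Sigma.hom_ext _ _ fun n => by simp [Preadditive.sub_comp, hc])

include hKinj in
theorem QGood.colimit (hP : ShiftClosed P) (F : ℕ ⥤ CochainComplex A ℤ)
    (ρ : ∀ (n : ℕ) (p : ℤ), (F.obj (n + 1)).X p ⟶ (F.obj n).X p)
    (hρ : ∀ (n : ℕ) (p : ℤ), (F.map (homOfLE (Nat.le_succ n))).f p ≫ ρ n p = 𝟙 _)
    (h : ∀ n, QGood P (F.obj n)) : QGood P (colimit F) := by
  let X := fun n => F.obj n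
  let i : ∀ n, X n ⟶ X (n + 1) := fun n => F.map (homOfLE (Nat.le_succ n))
  let S := telSC i (fun n => colimit.ι F n) fun n => colimit.w F _
  have hS : IsColimit (CokernelCofork.ofπ S.g S.zero) := by
    refine CokernelCofork.IsColimit.ofπ _ _ (fun {Z} g hg => colimit.desc F ⟨Z,
      NatTrans.ofSequence (fun n => Sigma.ι X n ≫ g) fun n => ?_⟩) (fun {Z} g hg => ?_)
      (fun {Z} g hg m hm => ?_)
    · have := congrArg (Sigma.ι X n ≫ ·) hg
      simp only [S, telSC, comp_zero, Sigma.ι_desc_assoc, Preadditive.sub_comp, sub_eq_zero, Category.assoc] at this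
      simpa [i] using this.symm
    · exact Sigma.hom_ext _ _ fun n => by simp [S, telSC]
    · refine colimit.hom_ext fun n => ?_
      rw [colimit.ι_desc]
      change colimit.ι F n ≫ m = Sigma.ι X n ≫ g
      rw [← hm]
      simp [S, telSC]
  refine QGood.of_degreewiseSplit hP S (fun p => ?_) (QGood.sigma hKinj X h) (QGood.sigma hKinj X h)
  let E := eval A (ComplexShape.up ℤ) p
  haveI : Epi S.g := Cofork.IsColimit.epi hS
  let col := isColimitCofanMkObjOfIsColimit E _ _ (coproductIsCoproduct X)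
  let ι₀ : ∀ m, (X m).X p ⟶ (∐ X).X p := fun m => (Sigma.ι X m).f p
  let r₀ : ∀ m, (X m).X p ⟶ (∐ X).X p := fun m => Nat.rec 0 (fun k r => ρ k p ≫ (r - ι₀ k)) m
  let r : (∐ X).X p ⟶ (∐ X).X p := Cofan.IsColimit.desc col r₀
  have hr : ∀ m, ι₀ m ≫ r = r₀ m := fun m => Cofan.IsColimit.fac col r₀ m
  refine ShortComplex.Splitting.ofExactOfRetraction _
    ((S.map E).exact_of_g_is_cokernel (isColimitCoforkMapOfIsColimit' E S.zero hS)) r ?_
    (inferInstanceAs (Epi (E.map S.g)))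
  refine Cofan.IsColimit.hom_ext col _ _ fun m => ?_
  change ι₀ m ≫ S.f.f p ≫ r = ι₀ m ≫ 𝟙 _
  have e1 : ι₀ m ≫ S.f.f p = ι₀ m - (i m).f p ≫ ι₀ (m + 1) := by
    change (Sigma.ι X m ≫ Sigma.desc fun n => Sigma.ι X n - i n ≫ Sigma.ι X (n + 1)).f p = _
    rw [Sigma.ι_desc]
    rfl
  rw [← Category.assoc, e1, Preadditive.sub_comp, Category.assoc, hr, hr, Category.comp_id]
  change r₀ m - (i m).f p ≫ ρ m p ≫ (r₀ m - ι₀ m) = ι₀ m
  rw [← Category.assoc, hρ, Category.id_comp, sub_sub_cancel]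

section Resolution

variable (cov : A → A) (π : ∀ M, cov M ⟶ M) (G : CochainComplex A ℤ)

include hKinj in
lemma qGood_of_d_eq_zero (Q : CochainComplex A ℤ) (hd : ∀ i j, Q.d i j = 0)
    (hQ : ∀ m, QGood P ((single A (ComplexShape.up ℤ) m).obj (Q.X m))) : QGood P Q := by
  let W := fun m : ℤ => (single A (ComplexShape.up ℤ) m).obj (Q.X m)
  let q : (∐ W) ⟶ Q := Sigma.desc fun m => HomologicalComplex.mkHomFromSingle (𝟙 _) (fun j _ => by simp [hd])
  haveI : ∀ n, IsIso (q.f n) := fun n => by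
    let col := isColimitCofanMkObjOfIsColimit (eval A (ComplexShape.up ℤ) n) _ _ (coproductIsCoproduct W)
    have hfac : (Sigma.ι W n).f n ≫ q.f n = (singleObjXSelf (ComplexShape.up ℤ) n (Q.X n)).hom := by
      rw [← comp_f, Sigma.ι_desc, mkHomFromSingle_f, Category.comp_id]
    refine ⟨(singleObjXSelf (ComplexShape.up ℤ) n (Q.X n)).inv ≫ (Sigma.ι W n).f n,
      Cofan.IsColimit.hom_ext col _ _ fun m => ?_, by rw [Category.assoc, hfac, Iso.inv_hom_id]⟩
    by_cases hm : n = m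
    · subst hm
      change (Sigma.ι W n).f n ≫ q.f n ≫ _ = (Sigma.ι W n).f n ≫ 𝟙 _
      rw [← Category.assoc, hfac, Iso.hom_inv_id_assoc, Category.comp_id]
    · exact (isZero_single_obj_X (ComplexShape.up ℤ) m _ n hm).eq_of_src _ _
  haveI := HomologicalComplex.Hom.isIso_of_components q
  exact (QGood.sigma hKinj W hQ).of_iso ((qA).mapIso (asIso q).symm)

include hKinj in
theorem qGood_resK [HasColimitsOfShape ℕ A] [HasExactColimitsOfShape ℕ A] (hP : ShiftClosed P)
    (s₀ : KFlat.Stage G) (h₀ : QGood P s₀.K) (hcov : ∀ M m, QGood P ((single A (ComplexShape.up ℤ) m).obj (cov M))) :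
    QGood P (KFlat.resK cov π G s₀) := by
  refine QGood.colimit hKinj hP (KFlat.seq cov π G s₀)
    (fun n p => (CochainComplex.mappingCone.snd (KFlat.attach cov π (KFlat.stage cov π G s₀ n))).v p p (add_zero p))
    (fun n p => ?_) fun n => ?_
  · simp only [KFlat.seq]
    erw [Functor.ofSequence_map_homOfLE_succ]
    exact CochainComplex.mappingCone.inr_f_snd_v _ p
  · change QGood P (KFlat.stage cov π G s₀ n).K
    induction n with
    | zero => exact h₀
    | succ n ih => exact QGood.cone hP _ (qGood_of_d_eq_zero hKinj _ (fun _ _ => rfl) fun m => hcov _ m) ih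

end Resolution

end Complexes

end Groth.Agent.RPushAdj
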