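import Groth.Agent.RPushAdj.Closure
import Groth.Agent.RPushSite.Limits
import Mathlib.CategoryTheory.Adjunction.Comma
import Mathlib.Algebra.Homology.HomotopyCategory.SingleFunctors

/-!
`Rf_*` on ringed sites has a left adjoint.
-/

set_option autoImplicit false
set_option backward.isDefEq.respectTransparency false
set_option backward.isDefEq.respectTransparency.types false
set_option linter.style.haveILetI false
set_option maxHeartbeats 1000000
universe u

open CategoryTheory Category Limits Opposite HomologicalComplex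
open scoped ZeroObject

attribute [local instance] HasDerivedCategory.standard

namespace Groth.Agent.RPushAdj

variable {C : Type u} [SmallCategory C] {J : GrothendieckTopology C} {D : Type u} [SmallCategory D]
  {K : GrothendieckTopology D} {O_C : Sheaf J CommRingCat.{u}} {O_D : Sheaf K CommRingCat.{u}}
  (f : ModSite.RMor O_C O_D)

/-- direct images of K-injective complexes -/
def pushed : ObjectProperty (HomotopyCategory (ModSite.Mod O_D) (ComplexShape.up ℤ)) := fun Z =>
  ∃ I, KInj.kinjProp (ModSite.Mod O_C) I ∧ Nonempty (Z ≅ (RPushSite.pushK f).obj I)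

lemma shiftClosed_pushed : ShiftClosed (pushed f) := fun Z ⟨I, hI, ⟨e⟩⟩ n => by
  refine ⟨(RPushSite.pushK f).obj (I⟦n⟧), ⟨I⟦n⟧, ?_, ⟨Iso.refl _⟩⟩,
    ⟨((RPushSite.pushK f).commShiftIso n).app I ≪≫ (shiftFunctor _ n).mapIso e.symm⟩⟩
  have : CochainComplex.IsKInjective I.as := hI
  exact (CochainComplex.isKInjective_iff_rightOrthogonal (I⟦n⟧).as).2
    ((HomotopyCategory.subcategoryAcyclic (ModSite.Mod O_C)).rightOrthogonal.le_shift n I
      ((CochainComplex.isKInjective_iff_rightOrthogonal I.as).1 hI))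

lemma good_of_qGood {W : CochainComplex (ModSite.Mod O_D) ℤ} (h : QGood (pushed f) W) :
    RPushSite.Good f ((HomotopyCategory.quotient _ _).obj W) :=
  fun I hI => h _ ⟨I, hI, ⟨Iso.refl _⟩⟩

lemma qGood_single (X : ModSite.Mod O_D) (hX : RPushSite.FAcyc f X) (m : ℤ) :
    QGood (pushed f) ((single (ModSite.Mod O_D) (ComplexShape.up ℤ) m).obj X) := by
  have h0 : QGood (pushed f) ((CochainComplex.singleFunctor (ModSite.Mod O_D) 0).obj X) :=
    fun Z ⟨I, hI, ⟨e⟩⟩ => Bij.of_iso (RPushSite.good_single f X hX I hI) (Iso.refl _) e.symm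
  exact (h0.shift (shiftClosed_pushed f) (-m)).of_iso ((HomotopyCategory.quotient _ _).mapIso
    (((CochainComplex.singleFunctors (ModSite.Mod O_D)).shiftIso (-m) m 0 (by lia)).app X).symm)

theorem exists_good_resolution (G : CochainComplex (ModSite.Mod O_D) ℤ) :
    ∃ (W : CochainComplex (ModSite.Mod O_D) ℤ) (q : W ⟶ G), QuasiIso q ∧
      RPushSite.Good f ((HomotopyCategory.quotient _ _).obj W) := by
  haveI : IsGrothendieckAbelian.{u} (ModSite.Mod O_D) := KFlat.isGrothendieck O_D
  haveI := KFlat.hasExactColimits_nat O_D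
  let s₀ : KFlat.Stage G := ⟨0, 0⟩
  refine ⟨KFlat.resK (KFlat.cover O_D) (KFlat.coverπ O_D) G s₀,
    KFlat.resQ (KFlat.cover O_D) (KFlat.coverπ O_D) G s₀,
    KFlat.quasiIso_resQ (KFlat.cover O_D) (KFlat.coverπ O_D) G s₀, good_of_qGood f ?_⟩
  exact qGood_resK (fun M => by obtain ⟨I, t, hI, ht, -⟩ := KInj.exists_kInjective M; exact ⟨I, t, hI, ht⟩)
    _ _ G (shiftClosed_pushed f) s₀ qGood_zero fun M m => qGood_single f _ (RPushSite.fAcyc_cover f M) m

variable [SiteCmp.HasRpushD f]

/-- **`Rf_*` is a right adjoint** -/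
theorem isRightAdjoint_rpushD : (SiteCmp.RpushD f).IsRightAdjoint := by
  haveI : ∀ X : DerivedCategory (ModSite.Mod O_D), HasInitial (StructuredArrow X (SiteCmp.RpushD f)) := by
    intro X
    obtain ⟨W, q, hq, hW⟩ := exists_good_resolution f (DerivedCategory.Q.objPreimage X)
    let W' := (HomotopyCategory.quotient _ (ComplexShape.up ℤ)).obj W
    let e : DerivedCategory.Qh.obj W' ≅ X :=
      (DerivedCategory.quotientCompQhIso _).app W ≪≫ asIso (DerivedCategory.Q.map q) ≪≫
        DerivedCategory.Q.objObjPreimageIso X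
    let T : StructuredArrow X (SiteCmp.RpushD f) := StructuredArrow.mk (e.inv ≫ RPushSite.uMap f W')
    have hb := RPushSite.bijective_uMap f hW
    haveI : ∀ Y, Nonempty (T ⟶ Y) := fun Y => by
      obtain ⟨g, hg⟩ := (hb Y.right).2 (e.hom ≫ Y.hom)
      exact ⟨StructuredArrow.homMk g (by simp only at hg; simp [T]; exact e.inv_comp_eq.2 hg)⟩
    haveI : ∀ Y, Subsingleton (T ⟶ Y) := fun Y => ⟨fun p p' => by
      refine StructuredArrow.hom_ext _ _ ((hb Y.right).1 ?_)
      have hp := StructuredArrow.w p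
      have hp' := StructuredArrow.w p'
      simpa [T] using hp.trans hp'.symm⟩
    exact hasInitial_of_unique T
  exact isRightAdjointOfStructuredArrowInitials _

end Groth.Agent.RPushAdj
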